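import Mathlib.Algebra.Module.FinitePresentation
import Mathlib.Algebra.Module.LocalizedModule.Exact
import Mathlib.Algebra.Category.ModuleCat.Projective
import Mathlib.Algebra.Category.ModuleCat.EnoughInjectives
import Mathlib.Algebra.Homology.DerivedCategory.Ext.EnoughProjectives
import Mathlib.Algebra.Homology.DerivedCategory.Ext.Linear
import Mathlib.Algebra.Category.ModuleCat.Ext.HasExt
import Mathlib.RingTheory.Noetherian.Basic
import Mathlib.RingTheory.LocalProperties.Projective
import Mathlib.Algebra.Homology.ShortComplex.ModuleCat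

/-!
# `Ext` of finite modules commutes with localization
-/

set_option autoImplicit false

universe u

open CategoryTheory

noncomputable section

namespace Groth.Agent.ExtLoc

variable {R : Type u} [CommRing R] (S : Submonoid R)

/-- A semilinear map exhibiting the target as the localization of the source. -/
structure IsLocMap {X Y : Type u} [AddCommGroup X] [Module R X] [AddCommGroup Y] [Module (Localization S) Y]
    (g : X →ₛₗ[algebraMap R (Localization S)] Y) : Prop where
  surj : ∀ y : Y, ∃ (x : X) (s : S), g x = algebraMap R (Localization S) s • y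
  ker : ∀ x : X, g x = 0 → ∃ s : S, (s : R) • x = 0

variable {S} in
theorem IsLocMap.subsingleton_iff {X Y : Type u} [AddCommGroup X] [Module R X] [AddCommGroup Y] [Module (Localization S) Y]
    {g : X →ₛₗ[algebraMap R (Localization S)] Y} (h : IsLocMap S g) :
    Subsingleton Y ↔ ∀ x : X, ∃ s : S, (s : R) • x = 0 := by
  refine ⟨fun hY x => h.ker x (Subsingleton.elim _ _), fun hX => subsingleton_of_forall_eq 0 fun y => ?_⟩
  obtain ⟨x, s, hs⟩ := h.surj y
  obtain ⟨t, ht⟩ := hX x
  have h1 : algebraMap R (Localization S) t • algebraMap R (Localization S) s • y = 0 := by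
    rw [← hs, ← map_smulₛₗ, ht, map_zero]
  exact (IsLocalization.map_units (Localization S) s).smul_left_cancel.1
    (((IsLocalization.map_units (Localization S) t).smul_left_cancel.1 (h1.trans (smul_zero _).symm)).trans (smul_zero _).symm)

variable {M N : Type u} [AddCommGroup M] [Module R M] [AddCommGroup N] [Module R N]

/-- The localization of a homomorphism. -/
def homLoc : (M →ₗ[R] N) →ₗ[R] LocalizedModule S M →ₗ[Localization S] LocalizedModule S N :=
  IsLocalizedModule.mapExtendScalars S (LocalizedModule.mkLinearMap S M) (LocalizedModule.mkLinearMap S N) (Localization S)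

theorem homLoc_mk (h : M →ₗ[R] N) (m : M) :
    homLoc S h (LocalizedModule.mkLinearMap S M m) = LocalizedModule.mkLinearMap S N (h m) :=
  IsLocalizedModule.map_apply S _ _ h m

theorem homLoc_comp {L : Type u} [AddCommGroup L] [Module R L] (f : L →ₗ[R] M) (h : M →ₗ[R] N) :
    homLoc S (h ∘ₗ f) = homLoc S h ∘ₗ LocalizedModule.map S f := by
  refine LinearMap.restrictScalars_injective R (IsLocalizedModule.linearMap_ext S (LocalizedModule.mkLinearMap S L)
    (LocalizedModule.mkLinearMap S N) (LinearMap.ext fun l => ?_))
  show homLoc S (h ∘ₗ f) (LocalizedModule.mkLinearMap S L l) = homLoc S h (LocalizedModule.map S f (LocalizedModule.mkLinearMap S L l))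
  rw [homLoc_mk, show LocalizedModule.map S f (LocalizedModule.mkLinearMap S L l) = LocalizedModule.mkLinearMap S M (f l) from
    LocalizedModule.map_mk S f l 1, homLoc_mk]
  rfl

variable (M N) in
/-- `Hom = Ext^0`. -/
def ext0 : Abelian.Ext (ModuleCat.of R M) (ModuleCat.of R N) 0 ≃ₗ[R] (M →ₗ[R] N) :=
  Abelian.Ext.linearEquiv₀.trans ModuleCat.homLinearEquiv

variable [IsNoetherianRing R]

theorem exists_isLocMap : ∀ (j : ℕ) (M : Type u) [AddCommGroup M] [Module R M] [Module.Finite R M],
    ∃ g : Abelian.Ext (ModuleCat.of R M) (ModuleCat.of R N) j →ₛₗ[algebraMap R (Localization S)]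
      Abelian.Ext (ModuleCat.of (Localization S) (LocalizedModule S M)) (ModuleCat.of (Localization S) (LocalizedModule S N)) j,
      IsLocMap S g := by
  intro j
  induction j with
  | zero =>
    intro M _ _ _
    haveI : Module.FinitePresentation R M := Module.finitePresentation_of_finite R M
    haveI : IsLocalizedModule S (homLoc S (M := M) (N := N)) :=
      Module.FinitePresentation.isLocalizedModule_mapExtendScalars S _ _ _
    let e := ext0 (R := R) M N
    let e' := ext0 (R := Localization S) (LocalizedModule S M) (LocalizedModule S N)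
    refine ⟨{ toFun := fun x => e'.symm (homLoc S (e x))
              map_add' := fun x y => by rw [map_add, map_add, map_add]
              map_smul' := fun r x => by
                rw [map_smul, map_smul, ← map_smul e'.symm, algebraMap_smul] }, ⟨fun y => ?_, fun x hx => ?_⟩⟩
    · obtain ⟨⟨h, s⟩, hs⟩ := IsLocalizedModule.surj S (homLoc S (M := M) (N := N)) (e' y)
      refine ⟨e.symm h, s, e'.injective ?_⟩
      show e' (e'.symm (homLoc S (e (e.symm h)))) = _
      rw [LinearEquiv.apply_symm_apply, LinearEquiv.apply_symm_apply, map_smul, ← hs, algebraMap_smul]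
      rfl
    · have h0 : homLoc S (e x) = 0 := e'.symm.map_eq_zero_iff.1 hx
      obtain ⟨s, hs⟩ := (IsLocalizedModule.eq_zero_iff S (homLoc S (M := M) (N := N))).1 h0
      exact ⟨s, e.injective (by rw [map_smul, map_zero]; exact hs)⟩
  | succ j ih =>
    intro M _ _ _
    obtain ⟨k, π, hπ⟩ := Module.Finite.exists_fin' R M
    let f : ↥(LinearMap.ker π) →ₗ[R] (Fin k → R) := (LinearMap.ker π).subtype
    have hex : Function.Exact f π := LinearMap.exact_subtype_ker_map π
    let T := ShortComplex.moduleCatMk f π hex.linearMap_comp_eq_zero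
    have hS : T.ShortExact :=
      { exact := (ShortComplex.ShortExact.moduleCat_exact_iff_function_exact _).2 hex
        mono_f := (ModuleCat.mono_iff_injective _).2 (LinearMap.ker π).injective_subtype
        epi_g := (ModuleCat.epi_iff_surjective _).2 hπ }
    let f' : LocalizedModule S (LinearMap.ker π) →ₗ[Localization S] LocalizedModule S (Fin k → R) := LocalizedModule.map S f
    let π' : LocalizedModule S (Fin k → R) →ₗ[Localization S] LocalizedModule S M := LocalizedModule.map S π
    have hex' : Function.Exact f' π' := LocalizedModule.map_exact S _ _ hex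
    let T' : ShortComplex (ModuleCat.{u} (Localization S)) := ShortComplex.moduleCatMk (X₁ := LocalizedModule S (LinearMap.ker π)) (X₂ := LocalizedModule S (Fin k → R)) (X₃ := LocalizedModule S M) f' π' hex'.linearMap_comp_eq_zero
    have hS' : T'.ShortExact :=
      { exact := (ShortComplex.ShortExact.moduleCat_exact_iff_function_exact _).2 hex'
        mono_f := (ModuleCat.mono_iff_injective _).2 (LocalizedModule.map_injective S _ (LinearMap.ker π).injective_subtype)
        epi_g := (ModuleCat.epi_iff_surjective _).2 (LocalizedModule.map_surjective S _ hπ) }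
    haveI : Projective T.X₂ := (IsProjective.iff_projective _).1 (inferInstanceAs (Module.Projective R (Fin k → R)))
    haveI : Projective T'.X₂ := (IsProjective.iff_projective _).1
      (inferInstanceAs (Module.Projective (Localization S) (LocalizedModule S (Fin k → R))))
    let Y := ModuleCat.of R N
    let Y' := ModuleCat.of (Localization S) (LocalizedModule S N)
    let p := hS.extClass.precompOfLinear R Y (Nat.add_comm 1 j)
    let p' := hS'.extClass.precompOfLinear (Localization S) Y' (Nat.add_comm 1 j)
    have hps : Function.Surjective p := fun x =>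
      Abelian.Ext.contravariant_sequence_exact₃ hS Y x (Abelian.Ext.eq_zero_of_projective _) (Nat.add_comm 1 j)
    have hps' : Function.Surjective p' := fun x =>
      Abelian.Ext.contravariant_sequence_exact₃ hS' Y' x (Abelian.Ext.eq_zero_of_projective _) (Nat.add_comm 1 j)
    suffices H : ∃ g : Abelian.Ext T.X₁ Y j →ₛₗ[algebraMap R (Localization S)] Abelian.Ext T'.X₁ Y' j,
        IsLocMap S g ∧ (∀ x, p x = 0 → p' (g x) = 0) ∧
          (∀ x, p' (g x) = 0 → ∃ s : S, p ((s : R) • x) = 0) by
      obtain ⟨g, hg, h1, h2⟩ := H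
      have hle : LinearMap.ker p ≤ LinearMap.ker (p'.comp g) := fun x hx => h1 x hx
      let G := (LinearMap.ker p).liftQ (p'.comp g) hle
      let ψ := p.quotKerEquivOfSurjective hps
      refine ⟨G.comp ψ.symm.toLinearMap, ⟨fun y => ?_, fun x hx => ?_⟩⟩
      · obtain ⟨y, rfl⟩ := hps' y
        obtain ⟨x, s, hs⟩ := hg.surj y
        refine ⟨p x, s, ?_⟩
        show G (ψ.symm (p x)) = _
        rw [show ψ.symm (p x) = Submodule.Quotient.mk x from (LinearEquiv.symm_apply_eq _).2 (by simp [ψ])]
        show p' (g x) = _
        exact (congrArg p' hs).trans (map_smul p' _ _)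
      · obtain ⟨x, rfl⟩ := hps x
        have hx' : G (ψ.symm (p x)) = 0 := hx
        rw [show ψ.symm (p x) = Submodule.Quotient.mk x from (LinearEquiv.symm_apply_eq _).2 (by simp [ψ])] at hx'
        obtain ⟨s, hs⟩ := h2 x hx'
        exact ⟨s, (map_smul p _ x).symm.trans hs⟩
    cases j with
    | succ j =>
      obtain ⟨g, hg⟩ := ih (LinearMap.ker π)
      have hinj : Function.Injective p := by
        rw [injective_iff_map_eq_zero]
        intro x hx
        obtain ⟨y, hy⟩ := Abelian.Ext.contravariant_sequence_exact₁ hS Y x (Nat.add_comm 1 (j + 1)) hx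
        rw [← hy, Abelian.Ext.eq_zero_of_projective y, Abelian.Ext.comp_zero]
      have hinj' : Function.Injective p' := by
        rw [injective_iff_map_eq_zero]
        intro x hx
        obtain ⟨y, hy⟩ := Abelian.Ext.contravariant_sequence_exact₁ hS' Y' x (Nat.add_comm 1 (j + 1)) hx
        rw [← hy, Abelian.Ext.eq_zero_of_projective y, Abelian.Ext.comp_zero]
      refine ⟨g, hg, fun x hx => ?_, fun x hx => ?_⟩
      · exact (congrArg p' ((congrArg g (hinj (hx.trans (map_zero p).symm))).trans (map_zero g))).trans (map_zero p')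
      · obtain ⟨s, hs⟩ := hg.ker x (hinj' (hx.trans (map_zero p').symm))
        exact ⟨s, (congrArg p hs).trans (map_zero p)⟩
    | zero =>
      haveI : Module.FinitePresentation R (LinearMap.ker π) := Module.finitePresentation_of_finite R _
      haveI : IsLocalizedModule S (homLoc S (M := LinearMap.ker π) (N := N)) :=
        Module.FinitePresentation.isLocalizedModule_mapExtendScalars S _ _ _
      haveI : IsLocalizedModule S (homLoc S (M := Fin k → R) (N := N)) :=
        Module.FinitePresentation.isLocalizedModule_mapExtendScalars S _ _ _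
      let e := ext0 (R := R) (LinearMap.ker π) N
      let e' := ext0 (R := Localization S) (LocalizedModule S (LinearMap.ker π)) (LocalizedModule S N)
      have hp : ∀ h : ↥(LinearMap.ker π) →ₗ[R] N, p (e.symm h) = 0 ↔ ∃ q : (Fin k → R) →ₗ[R] N, q ∘ₗ f = h := fun h => by
        constructor
        · intro h0
          obtain ⟨y, hy⟩ := Abelian.Ext.contravariant_sequence_exact₁ hS Y (Abelian.Ext.mk₀ (ModuleCat.ofHom h))
            (rfl : 1 + 0 = 1) h0
          obtain ⟨q, rfl⟩ := (Abelian.Ext.mk₀_bijective _ _).2 y
          rw [Abelian.Ext.mk₀_comp_mk₀] at hy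
          exact ⟨q.hom, congrArg ModuleCat.Hom.hom ((Abelian.Ext.mk₀_bijective _ _).1 hy)⟩
        · rintro ⟨q, rfl⟩
          exact ((congrArg (fun t => hS.extClass.comp t (rfl : 1 + 0 = 1))
            (Abelian.Ext.mk₀_comp_mk₀ T.f (ModuleCat.ofHom q)).symm).trans ((Abelian.Ext.comp_assoc_of_third_deg_zero _ _ _ _).symm.trans
              ((congrArg (fun t => Abelian.Ext.comp t _ (add_zero 1)) hS.extClass_comp).trans (Abelian.Ext.zero_comp _ _ _ _ _))))
      have hp' : ∀ h, p' (e'.symm h) = 0 ↔ ∃ q, q ∘ₗ f' = h := fun h => by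
        constructor
        · intro h0
          obtain ⟨y, hy⟩ := Abelian.Ext.contravariant_sequence_exact₁ hS' Y' (Abelian.Ext.mk₀ (ModuleCat.ofHom h))
            (rfl : 1 + 0 = 1) h0
          obtain ⟨q, rfl⟩ := (Abelian.Ext.mk₀_bijective _ _).2 y
          rw [Abelian.Ext.mk₀_comp_mk₀] at hy
          exact ⟨q.hom, congrArg ModuleCat.Hom.hom ((Abelian.Ext.mk₀_bijective _ _).1 hy)⟩
        · rintro ⟨q, rfl⟩
          exact ((congrArg (fun t => hS'.extClass.comp t (rfl : 1 + 0 = 1))
            (Abelian.Ext.mk₀_comp_mk₀ T'.f (ModuleCat.ofHom q)).symm).trans ((Abelian.Ext.comp_assoc_of_third_deg_zero _ _ _ _).symm.trans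
              ((congrArg (fun t => Abelian.Ext.comp t _ (add_zero 1)) hS'.extClass_comp).trans (Abelian.Ext.zero_comp _ _ _ _ _))))
      let g : Abelian.Ext T.X₁ Y 0 →ₛₗ[algebraMap R (Localization S)] Abelian.Ext T'.X₁ Y' 0 :=
        { toFun := fun x => e'.symm (homLoc S (e x))
          map_add' := fun x y => (congrArg (fun t => e'.symm (homLoc S t)) (map_add e x y)).trans ((congrArg e'.symm (map_add (homLoc S) _ _)).trans (map_add e'.symm _ _))
          map_smul' := fun r x => (congrArg (fun t => e'.symm (homLoc S t)) (map_smul e r x)).trans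
            ((congrArg e'.symm ((map_smul (homLoc S) r _).trans (algebraMap_smul (Localization S) r _).symm)).trans
              (map_smul e'.symm _ _)) }
      refine ⟨g, ⟨fun y => ?_, fun x hx => ?_⟩, fun x hx => ?_, fun x hx => ?_⟩
      · obtain ⟨⟨h, s⟩, hs⟩ := IsLocalizedModule.surj S (homLoc S (M := LinearMap.ker π) (N := N)) (e' y)
        exact ⟨e.symm h, s, (congrArg (fun t => e'.symm (homLoc S t)) (e.apply_symm_apply h)).trans
          ((congrArg e'.symm (hs.symm.trans (algebraMap_smul (Localization S) (s : R) _).symm)).trans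
            ((map_smul e'.symm _ _).trans (congrArg _ (e'.symm_apply_apply y))))⟩
      · obtain ⟨s, hs⟩ := (IsLocalizedModule.eq_zero_iff S (homLoc S (M := LinearMap.ker π) (N := N))).1
          (e'.symm.map_eq_zero_iff.1 hx)
        exact ⟨s, e.injective ((map_smul e _ _).trans (hs.trans (map_zero e).symm))⟩
      · obtain ⟨q, hq⟩ := (hp (e x)).1 ((congrArg p (e.symm_apply_apply x)).trans hx)
        exact (hp' _).2 ⟨homLoc S q, (homLoc_comp S f q).symm.trans (congrArg (homLoc S) hq)⟩
      · obtain ⟨q, hq⟩ := (hp' _).1 hx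
        obtain ⟨⟨q₀, s⟩, hs⟩ := IsLocalizedModule.surj S (homLoc S (M := Fin k → R) (N := N)) q
        have h1 : homLoc S (q₀ ∘ₗ f) = homLoc S ((s : R) • e x) := by
          rw [homLoc_comp, ← hs, map_smul, ← hq]
          rfl
        obtain ⟨t, ht⟩ := IsLocalizedModule.exists_of_eq (S := S) h1
        refine ⟨t * s, ?_⟩
        refine (congrArg p (e.symm_apply_apply _).symm).trans ((hp _).2 ⟨(t : R) • q₀, ?_⟩)
        exact ((LinearMap.smul_comp _ _ _).trans (ht.trans (mul_smul (t : R) (s : R) _).symm)).trans (map_smul e _ x).symm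

end Groth.Agent.ExtLoc
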